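import Groth.Agent.Lib.BlowUp.Rees
import Mathlib.RingTheory.Valuation.ValuationSubring
import Mathlib.AlgebraicGeometry.ProjectiveSpectrum.Proper

/-!
# The blow-up of an affine scheme in a finitely generated ideal: points and charts
-/

set_option autoImplicit false

universe u

open CategoryTheory Limits AlgebraicGeometry Polynomial GrothLib.BlowUp

namespace GrothLib.HensRigid4

variable {A : Type u} [CommRing A]

set_option backward.isDefEq.respectTransparency false in
set_option backward.isDefEq.respectTransparency.types false in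
theorem isProper_proj {K : Ideal A} (hK : K.FG) :
    IsProper (Proj (Rees.deg (reesAlgebra K)) ↘ Spec (CommRingCat.of A)) := by
  have hsurj : Function.Surjective (algebraMap A (Rees.deg (reesAlgebra K) 0)) := by
    intro y
    obtain ⟨x, hx, e⟩ := exists_eq_monomial K y.2
    refine ⟨x, Subtype.ext (Subtype.ext ?_)⟩
    rw [e, monomial_zero_left]
    rfl
  have : Algebra.FiniteType A (reesAlgebra K) := ⟨(reesAlgebra K).fg_top.mpr (reesAlgebra.fg hK)⟩
  have : IsScalarTower A (Rees.deg (reesAlgebra K) 0) (reesAlgebra K) :=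
    IsScalarTower.of_algebraMap_eq (R := A) (S := Rees.deg (reesAlgebra K) 0) (A := reesAlgebra K) fun _ => rfl
  have : Algebra.FiniteType (Rees.deg (reesAlgebra K) 0) (reesAlgebra K) :=
    Algebra.FiniteType.of_restrictScalars_finiteType A _ _
  show IsProper (Proj.toSpecZero _ ≫ Spec.map _)
  refine MorphismProperty.comp_mem @IsProper _ _ inferInstance ?_
  have : IsClosedImmersion (Spec.map (CommRingCat.ofHom (algebraMap A (Rees.deg (reesAlgebra K) 0)) :
      CommRingCat.of A ⟶ CommRingCat.of (Rees.deg (reesAlgebra K) 0))) :=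
    IsClosedImmersion.spec_of_surjective _ hsurj
  exact inferInstanceAs (IsProper (Spec.map (CommRingCat.ofHom (algebraMap A (Rees.deg (reesAlgebra K) 0)) :
      CommRingCat.of A ⟶ CommRingCat.of (Rees.deg (reesAlgebra K) 0))))

/-- A factor of a regular element which recovers it in a localization at a prime avoids that prime. -/
theorem notMem_of_mul_eq {B : Type u} [CommRing B] (q : Ideal B) [q.IsPrime] (x y f : B)
    (hx : x ∈ nonZeroDivisors B) (w : Localization.AtPrime q)
    (h1 : algebraMap B (Localization.AtPrime q) y * w = algebraMap B _ x) (h2 : x * f = y) : f ∉ q := by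
  intro hf
  obtain ⟨⟨b, u⟩, hbu⟩ := IsLocalization.surj q.primeCompl w
  have h0 : algebraMap B (Localization.AtPrime q) (y * b) = algebraMap B _ (x * u) := by
    rw [map_mul, map_mul, ← hbu, ← mul_assoc, h1]
  obtain ⟨v, hv⟩ := (IsLocalization.eq_iff_exists q.primeCompl _).1 h0
  have h3 : x * (v * (f * b) - v * u) = 0 := by
    rw [← h2] at hv
    linear_combination hv
  have h4 := sub_eq_zero.1 (mem_nonZeroDivisors_iff_left.1 hx _ h3)
  exact (q.primeCompl.mul_mem v.2 u.2) (h4 ▸ q.mul_mem_left _ (q.mul_mem_right _ hf))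

variable {K : Ideal A} {P : Scheme.{u}} {π : P ⟶ Spec (CommRingCat.of A)} (C : Charts K π)

include C

theorem asIdeal_π_j (c : K) (q : Spec (CommRingCat.of ↥(_root_.BlowUp.affineAlgebra A K (c : A)))) :
    (π (C.j c q) : PrimeSpectrum A).asIdeal =
      q.asIdeal.comap (algebraMap A ↥(_root_.BlowUp.affineAlgebra A K (c : A))) := by
  rw [← Scheme.Hom.comp_apply, C.comp]
  rfl

omit C in
theorem frac_notMem_of_hom (a c : K) (q : Ideal ↥(_root_.BlowUp.affineAlgebra A K (c : A))) [q.IsPrime]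
    (ψ : ↥(_root_.BlowUp.affineAlgebra A K (a : A)) →+* Localization.AtPrime q)
    (hψ : ψ.comp (algebraMap A ↥(_root_.BlowUp.affineAlgebra A K (a : A))) =
      (algebraMap ↥(_root_.BlowUp.affineAlgebra A K (c : A)) (Localization.AtPrime q)).comp
        (algebraMap A ↥(_root_.BlowUp.affineAlgebra A K (c : A)))) :
    frac (c : A) a ∉ q := by
  refine notMem_of_mul_eq q _ _ _ (algebraMap_mem_nonZeroDivisors (I := K) (c : A))
    (ψ (frac (a : A) c)) ?_ (algebraMap_mul_frac (c : A) a)
  have := congrArg ψ (algebraMap_mul_frac (a : A) c)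
  rwa [map_mul, ← RingHom.comp_apply, hψ, ← RingHom.comp_apply ψ, hψ] at this

/-- When a point of one chart lies in another. -/
theorem mem_range_j_iff (a c : K) (q : Spec (CommRingCat.of ↥(_root_.BlowUp.affineAlgebra A K (c : A)))) :
    C.j c q ∈ Set.range (C.j a) ↔ frac (c : A) a ∉ q.asIdeal := by
  refine ⟨fun hq ↦ ?_, C.overlap a c q⟩
  let i : CommRingCat.of ↥(_root_.BlowUp.affineAlgebra A K (c : A)) ⟶
      CommRingCat.of (Localization.AtPrime q.asIdeal) :=
    CommRingCat.ofHom (algebraMap ↥(_root_.BlowUp.affineAlgebra A K (c : A)) (Localization.AtPrime q.asIdeal))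
  have hrange : Set.range (Spec.map i ≫ C.j c) ⊆ Set.range (C.j a) := by
    rintro _ ⟨t, rfl⟩
    rw [Scheme.Hom.comp_apply]
    refine Specializes.mem_open (Specializes.map ?_ (C.j c).continuous) (C.j a).isOpenEmbedding.isOpen_range hq
    refine (PrimeSpectrum.le_iff_specializes (R := ↥(_root_.BlowUp.affineAlgebra A K (c : A))) (Spec.map i t) q).1 ?_
    intro z hz
    by_contra hzq
    exact (show (t : PrimeSpectrum (Localization.AtPrime q.asIdeal)).asIdeal ≠ ⊤ from t.isPrime.ne_top)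
      (Ideal.eq_top_of_isUnit_mem _ hz (IsLocalization.map_units (M := q.asIdeal.primeCompl) _ ⟨z, hzq⟩))
  let k := IsOpenImmersion.lift (C.j a) (Spec.map i ≫ C.j c) hrange
  have hk : k ≫ C.j a = Spec.map i ≫ C.j c := IsOpenImmersion.lift_fac _ _ _
  obtain ⟨ψ, hψ⟩ : ∃ ψ, Spec.map ψ = k := ⟨Spec.preimage k, Spec.map_preimage k⟩
  have hcomp : ψ.hom.comp (algebraMap A ↥(_root_.BlowUp.affineAlgebra A K (a : A))) =
      i.hom.comp (algebraMap A ↥(_root_.BlowUp.affineAlgebra A K (c : A))) := by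
    have : Spec.map (CommRingCat.ofHom (algebraMap A _) ≫ ψ) =
        Spec.map (CommRingCat.ofHom (algebraMap A ↥(_root_.BlowUp.affineAlgebra A K (c : A))) ≫ i) := by
      rw [Spec.map_comp, Spec.map_comp, hψ, ← C.comp a, ← Category.assoc, hk, Category.assoc, C.comp]
    exact congrArg CommRingCat.Hom.hom (Spec.map_injective this)
  exact frac_notMem_of_hom a c q.asIdeal ψ.hom hcomp

theorem mem_range_of_notMem (g : K) (x : P) (hg : (g : A) ∉ (π x : PrimeSpectrum A).asIdeal) :
    x ∈ Set.range (C.j g) := by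
  obtain ⟨c, q, rfl⟩ := C.covers x
  rw [asIdeal_π_j C, Ideal.mem_comap, ← algebraMap_mul_frac (c : A) g] at hg
  exact C.overlap g c q fun h ↦ hg (Ideal.mul_mem_left _ _ h)

theorem mem_range_iff_notMem (g : K) {x : P} {g₀ : K} (hg₀ : (g₀ : A) ∉ (π x : PrimeSpectrum A).asIdeal) :
    x ∈ Set.range (C.j g) ↔ (g : A) ∉ (π x : PrimeSpectrum A).asIdeal := by
  refine ⟨?_, mem_range_of_notMem C g x⟩
  rintro ⟨q, rfl⟩ hg
  refine hg₀ ?_
  rw [asIdeal_π_j C, Ideal.mem_comap] at hg ⊢
  rw [← algebraMap_mul_frac (g : A) g₀]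
  exact Ideal.mul_mem_right _ _ hg

theorem eq_of_π_eq {g : K} {x y : P} (hxy : π x = π y) (hg : (g : A) ∉ (π x : PrimeSpectrum A).asIdeal) :
    x = y := by
  obtain ⟨q, rfl⟩ := mem_range_of_notMem C g x hg
  obtain ⟨q', rfl⟩ := mem_range_of_notMem C g y (hxy ▸ hg)
  congr 1
  have e : ∀ r : A, algebraMap A _ r ∈ q.asIdeal ↔ algebraMap A _ r ∈ q'.asIdeal := fun r ↦ by
    rw [← Ideal.mem_comap, ← Ideal.mem_comap, ← asIdeal_π_j C, ← asIdeal_π_j C, hxy]
  rw [asIdeal_π_j C] at hg
  refine PrimeSpectrum.ext (Ideal.ext fun z ↦ ?_)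
  obtain ⟨⟨r, s⟩, hrs⟩ := IsLocalization.surj (Submonoid.powers (g : A)) (z : Localization.Away (g : A))
  have hz : z * algebraMap A _ (s : A) = algebraMap A _ r := Subtype.ext hrs
  obtain ⟨m, hm⟩ := s.2
  have key : ∀ Q : Ideal ↥(_root_.BlowUp.affineAlgebra A K (g : A)), Q.IsPrime →
      algebraMap A _ (g : A) ∉ Q → (z ∈ Q ↔ algebraMap A _ r ∈ Q) := fun Q hQ hgQ ↦ by
    rw [← hz, ← hm]
    refine ⟨fun h ↦ Q.mul_mem_right _ h, fun h ↦ (hQ.mem_or_mem h).resolve_right ?_⟩
    rw [map_pow]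
    exact fun h' ↦ hgQ (hQ.mem_of_pow_mem m h')
  rw [key _ q.isPrime hg, key _ q'.isPrime fun h ↦ hg ((e _).2 h), e]

theorem exists_π_eq {g : K} (p : PrimeSpectrum A) (hg : (g : A) ∉ p.asIdeal) :
    ∃ x : P, (π x : PrimeSpectrum A) = p := by
  obtain ⟨q, hq⟩ : p ∈ Set.range (PrimeSpectrum.comap (algebraMap A (Localization.Away (g : A)))) := by
    rw [PrimeSpectrum.localization_away_comap_range (Localization.Away (g : A)) (g : A)]
    exact hg
  refine ⟨C.j g (PrimeSpectrum.comap (_root_.BlowUp.affineAlgebra A K (g : A)).val.toRingHom q),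
    PrimeSpectrum.ext ?_⟩
  rw [asIdeal_π_j C, ← hq, PrimeSpectrum.comap_asIdeal, PrimeSpectrum.comap_asIdeal, Ideal.comap_comap]
  rfl

/-- A valuation centred in the base lifts, and its centre is read off the ratios of the generators. -/
theorem exists_specializes {L : Type u} [Field L] (O : ValuationSubring L) (φ : A →+* O) (g : K)
    (hg : φ g ≠ 0) (hle : K.map φ ≤ Ideal.span {φ g}) :
    ∃ x z : P, x ⤳ z ∧ (π x : PrimeSpectrum A).asIdeal = RingHom.ker φ ∧
      (π z : PrimeSpectrum A).asIdeal = (IsLocalRing.maximalIdeal O).comap φ ∧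
      ∀ (c : K) (t : O), φ c = φ g * t → (z ∈ Set.range (C.j c) ↔ t ∉ IsLocalRing.maximalIdeal O) := by
  obtain ⟨ψ, hψ⟩ := exists_lift_affineAlgebra (g : A) φ (mem_nonZeroDivisors_of_ne_zero hg) hle
  let x₀ : PrimeSpectrum O := ⊥
  let z₀ : PrimeSpectrum O := IsLocalRing.closedPoint O
  refine ⟨C.j g (PrimeSpectrum.comap ψ x₀), C.j g (PrimeSpectrum.comap ψ z₀), ?_, ?_, ?_, fun c t ht ↦ ?_⟩
  · refine Specializes.map ?_ (C.j g).continuous
    exact (PrimeSpectrum.le_iff_specializes (PrimeSpectrum.comap ψ x₀) (PrimeSpectrum.comap ψ z₀)).1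
      (Ideal.comap_mono bot_le)
  · rw [asIdeal_π_j C, PrimeSpectrum.comap_asIdeal, Ideal.comap_comap, hψ]
    rfl
  · rw [asIdeal_π_j C, PrimeSpectrum.comap_asIdeal, Ideal.comap_comap, hψ]
    rfl
  · rw [mem_range_j_iff C, PrimeSpectrum.comap_asIdeal, Ideal.mem_comap]
    have : ψ (frac (g : A) c) = t := by
      refine mul_left_cancel₀ hg ?_
      rw [← ht, ← hψ, RingHom.comp_apply, ← map_mul, algebraMap_mul_frac]
      rfl
    rw [this]
    rfl

omit C in
theorem map_eq_span_of_dvd {ι : Type*} {B : Type u} [CommRing B] (φ : A →+* B) (g : ι → A) (k : ι)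
    (h : ∀ i, φ (g k) ∣ φ (g i)) : (Ideal.span (Set.range g)).map φ ≤ Ideal.span {φ (g k)} := by
  rw [Ideal.map_span, Ideal.span_le]
  rintro _ ⟨_, ⟨i, rfl⟩, rfl⟩
  exact Ideal.mem_span_singleton.2 (h i)

omit C

theorem exists_mem_range_gen {ι : Type*} {g : ι → A} (hK : K = Ideal.span (Set.range g)) (C : Charts K π)
    (x : P) : ∃ i, x ∈ Set.range (C.j ⟨g i, hK ▸ Ideal.subset_span ⟨i, rfl⟩⟩) := by
  obtain ⟨c, q, rfl⟩ := C.covers x
  by_contra! h
  refine q.isPrime.ne_top (Ideal.eq_top_of_isUnit_mem (x := (1 : _)) _ ?_ isUnit_one)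
  have key : ∀ y (hy : y ∈ K), frac (c : A) ⟨y, hy⟩ ∈ q.asIdeal := by
    intro y hy
    have hy' : y ∈ Ideal.span (Set.range g) := hK ▸ hy
    revert hy
    induction hy' using Submodule.span_induction with
    | mem y hy =>
      obtain ⟨i, rfl⟩ := hy
      intro hy
      by_contra hq
      exact h i (C.overlap _ c q hq)
    | zero =>
      intro hy
      have : frac (c : A) ⟨0, hy⟩ = 0 := Subtype.ext (IsLocalization.mk'_zero _)
      rw [this]
      exact zero_mem _
    | add a b ha hb iha ihb =>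
      intro hy
      have : frac (c : A) ⟨a + b, hy⟩ = frac (c : A) ⟨a, hK ▸ ha⟩ + frac (c : A) ⟨b, hK ▸ hb⟩ := by
        refine (mul_cancel_left_mem_nonZeroDivisors (algebraMap_mem_nonZeroDivisors (I := K) (c : A))).mp ?_
        rw [mul_add, algebraMap_mul_frac, algebraMap_mul_frac, algebraMap_mul_frac, map_add]
      rw [this]
      exact add_mem (iha _) (ihb _)
    | smul r a ha iha =>
      intro hy
      have : frac (c : A) ⟨r • a, hy⟩ = algebraMap A _ r * frac (c : A) ⟨a, hK ▸ ha⟩ := by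
        refine (mul_cancel_left_mem_nonZeroDivisors (algebraMap_mem_nonZeroDivisors (I := K) (c : A))).mp ?_
        rw [mul_left_comm, algebraMap_mul_frac, algebraMap_mul_frac, ← map_mul]
        rfl
      rw [this]
      exact Ideal.mul_mem_left _ _ (iha _)
  have h1 : frac (c : A) c = 1 := by
    refine (mul_cancel_left_mem_nonZeroDivisors (algebraMap_mem_nonZeroDivisors (I := K) (c : A))).mp ?_
    rw [algebraMap_mul_frac, mul_one]
  rw [← h1]
  exact key _ c.2

theorem disjoint_of_mul_mem (C : Charts K π) {I : Ideal A} {x : P} {a b : K}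
    (hx : I ≤ (π x : PrimeSpectrum A).asIdeal) (hab : (a : A) * b ∈ I * K ^ 2)
    (ha : x ∈ Set.range (C.j a)) (hb : x ∈ Set.range (C.j b)) : False := by
  obtain ⟨c, q, rfl⟩ := C.covers x
  rw [mem_range_j_iff C] at ha hb
  rw [asIdeal_π_j C, ← Ideal.map_le_iff_le_comap] at hx
  have h : algebraMap A ↥(_root_.BlowUp.affineAlgebra A K (c : A)) ((a : A) * b) ∈
      I.map (algebraMap A ↥(_root_.BlowUp.affineAlgebra A K (c : A))) * Ideal.span {algebraMap A _ (c : A) ^ 2} := by
    rw [← Ideal.span_singleton_pow, ← map_eq_span (c : A) c.2, ← Ideal.map_pow, ← Ideal.map_mul]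
    exact Ideal.mem_map_of_mem _ hab
  obtain ⟨i, hi, e⟩ := Ideal.mem_mul_span_singleton.1 h
  have hnz := algebraMap_mem_nonZeroDivisors (I := K) (c : A)
  have : frac (c : A) a * frac (c : A) b = i := by
    refine (mul_cancel_left_mem_nonZeroDivisors (pow_mem hnz 2)).mp ?_
    rw [mul_comm _ i, e, map_mul, ← algebraMap_mul_frac (c : A) a, ← algebraMap_mul_frac (c : A) b]
    ring
  exact (q.isPrime.mem_or_mem (this ▸ hx hi)).elim ha hb

end GrothLib.HensRigid4
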