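import Groth.Agent.Lib.HensRigid4.Blow
import Groth.Agent.Lib.PropH0.Clopen
import Mathlib.RingTheory.AdicCompletion.Completeness
import Mathlib.RingTheory.Valuation.LocalSubring
import Mathlib.RingTheory.Nakayama

/-!
# Clopen subsets of a quasi-compact open of a henselian pair and of its completion

For a henselian pair `(A, I)` with `I` finitely generated and a quasi-compact open `U ⊇ Spec A ∖ V(I)`,
clopen subsets of `U` correspond to clopen subsets of its preimage in the spectrum of the completion.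
A clopen of the preimage is cut out by finitely many functions; approximations of these in `A` generate
an ideal whose blow-up has a disconnected closed fibre, and the henselian property of proper schemes
over henselian pairs spreads the decomposition.
-/

set_option autoImplicit false

universe u

open CategoryTheory AlgebraicGeometry GrothLib.BlowUp

namespace GrothLib.HensRigid4

open PrimeSpectrum

variable {A : Type u} [CommRing A] {I : Ideal A}

theorem exists_sub_mem_map_pow (hI : I.FG) (N : ℕ) (x : AdicCompletion I A) :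
    ∃ a, x - algebraMap A (AdicCompletion I A) a ∈ (I ^ N).map (algebraMap A (AdicCompletion I A)) := by
  obtain ⟨a, ha⟩ := Ideal.Quotient.mk_surjective (x.1 N)
  refine ⟨a, ?_⟩
  rw [← Submodule.restrictScalars_mem A, ← Ideal.smul_top_eq_map,
    AdicCompletion.pow_smul_top_eq_ker_eval hI]
  simpa [AdicCompletion.eval, AdicCompletion.algebraMap_apply, sub_eq_zero] using ha.symm

theorem comap_map_pow (hI : I.FG) (N : ℕ) :
    ((I ^ N).map (algebraMap A (AdicCompletion I A))).comap (algebraMap A (AdicCompletion I A)) = I ^ N := by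
  refine le_antisymm (fun a ha ↦ ?_) Ideal.le_comap_map
  rw [Ideal.mem_comap, ← Submodule.restrictScalars_mem A, ← Ideal.smul_top_eq_map,
    AdicCompletion.pow_smul_top_eq_ker_eval hI] at ha
  simpa [AdicCompletion.eval, AdicCompletion.algebraMap_apply, Ideal.Quotient.eq_zero_iff_mem] using ha

theorem comap_map_of_pow_le (hI : I.FG) {N : ℕ} {L : Ideal A} (h : I ^ N ≤ L) :
    (L.map (algebraMap A (AdicCompletion I A))).comap (algebraMap A (AdicCompletion I A)) = L := by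
  refine le_antisymm (fun a ha ↦ ?_) Ideal.le_comap_map
  have key : ∀ z ∈ L.map (algebraMap A (AdicCompletion I A)), ∃ l ∈ L,
      z - algebraMap A _ l ∈ (I ^ N).map (algebraMap A (AdicCompletion I A)) := by
    intro z hz
    induction hz using Submodule.span_induction with
    | mem z hz => obtain ⟨l, hl, rfl⟩ := hz; exact ⟨l, hl, by simp⟩
    | zero => exact ⟨0, zero_mem _, by simp⟩
    | add z w _ _ ihz ihw =>
      obtain ⟨l, hl, hl'⟩ := ihz
      obtain ⟨l', hl₂, hl₂'⟩ := ihw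
      exact ⟨l + l', add_mem hl hl₂, by rw [map_add, add_sub_add_comm]; exact add_mem hl' hl₂'⟩
    | smul c z _ ih =>
      obtain ⟨l, hl, hl'⟩ := ih
      obtain ⟨r, hr⟩ := exists_sub_mem_map_pow hI N c
      refine ⟨r * l, L.mul_mem_left _ hl, ?_⟩
      rw [smul_eq_mul, map_mul, show c * z - algebraMap A _ r * algebraMap A _ l =
        c * (z - algebraMap A _ l) + (c - algebraMap A _ r) * algebraMap A _ l by ring]
      exact add_mem (Ideal.mul_mem_left _ _ hl') (Ideal.mul_mem_right _ _ hr)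
  obtain ⟨l, hl, hl'⟩ := key _ ha
  rw [← map_sub, ← Ideal.mem_comap, comap_map_pow hI] at hl'
  exact (sub_add_cancel a l) ▸ L.add_mem (h hl') hl

theorem map_le_jacobson (hI : I.FG) :
    I.map (algebraMap A (AdicCompletion I A)) ≤ Ideal.jacobson ⊥ :=
  haveI : IsAdicComplete (I.map (algebraMap A (AdicCompletion I A))) (AdicCompletion I A) :=
    AdicCompletion.isAdicComplete_self _ hI
  IsAdicComplete.le_jacobson_bot _

/-- A decomposition of a quasi-compact open into two quasi-compact opens, by finitely many functions. -/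
theorem exists_gens {R : Type u} [CommRing R] {J : Ideal R} (hJ : J.FG) {V V' : Set (PrimeSpectrum R)}
    (hV : IsCompact V ∧ IsOpen V) (hV' : IsCompact V' ∧ IsOpen V') (hd : Disjoint V V')
    (hu : V ∪ V' = (zeroLocus (J : Set R))ᶜ) :
    ∃ (r s : ℕ) (a : Fin r → R) (b : Fin s → R) (m : ℕ), (∀ i j, a i * b j = 0) ∧
      V = {p | ∃ i, a i ∉ p.asIdeal} ∧ V' = {p | ∃ j, b j ∉ p.asIdeal} ∧
      J ^ m ≤ Ideal.span (Set.range (Sum.elim a b)) := by
  obtain ⟨s₁, h₁⟩ := isCompact_isOpen_iff.1 hV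
  obtain ⟨s₂, h₂⟩ := isCompact_isOpen_iff.1 hV'
  have hnil : ∀ x ∈ s₁, ∀ y ∈ s₂, x * y ∈ nilradical R := fun x hx y hy ↦ by
    rw [nilradical_eq_sInf, Ideal.mem_sInf]
    intro p hp
    by_contra hxy
    refine Set.disjoint_left.1 hd (?_ : (⟨p, hp⟩ : PrimeSpectrum R) ∈ V) ?_
    · rw [← h₁]; exact fun h ↦ hxy (Ideal.mul_mem_right _ _ (h hx))
    · rw [← h₂]; exact fun h ↦ hxy (Ideal.mul_mem_left _ _ (h hy))
  obtain ⟨e, he⟩ : ∃ e, ∀ x ∈ s₁, ∀ y ∈ s₂, (x * y) ^ e = 0 := by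
    choose k hk using fun (z : s₁ × s₂) ↦ (mem_nilradical.1 (hnil _ z.1.2 _ z.2.2) : IsNilpotent ((z.1 : R) * z.2))
    exact ⟨Finset.univ.sup k, fun x hx y hy ↦
      pow_eq_zero_of_le (Finset.le_sup (f := k) (Finset.mem_univ (⟨x, hx⟩, ⟨y, hy⟩))) (hk (⟨x, hx⟩, ⟨y, hy⟩))⟩
  have hmem : ∀ (t : Finset R) (p : PrimeSpectrum R), p ∈ (zeroLocus (t : Set R))ᶜ ↔
      ∃ i, ((t.equivFin.symm i : R)) ^ (e + 1) ∉ p.asIdeal := fun t p ↦ by
    refine ⟨fun h ↦ ?_, fun ⟨i, hi⟩ h ↦ hi (Ideal.pow_mem_of_mem _ (h (t.equivFin.symm i).2) _ e.succ_pos)⟩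
    obtain ⟨x, hx, hxp⟩ := Set.not_subset.1 h
    exact ⟨t.equivFin ⟨x, hx⟩, by
      rw [Equiv.symm_apply_apply]; exact fun h ↦ hxp (p.isPrime.mem_of_pow_mem _ h)⟩
  let a : Fin s₁.card → R := fun i ↦ (s₁.equivFin.symm i : R) ^ (e + 1)
  let b : Fin s₂.card → R := fun i ↦ (s₂.equivFin.symm i : R) ^ (e + 1)
  have hle : J ≤ (Ideal.span (Set.range (Sum.elim a b))).radical := by
    rw [Ideal.radical_eq_sInf]
    refine le_sInf fun p ⟨hp, hp'⟩ ↦ ?_
    by_contra hJp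
    have hin : (⟨p, hp'⟩ : PrimeSpectrum R) ∈ V ∪ V' := hu ▸ hJp
    rcases hin with h | h
    · obtain ⟨i, hi⟩ := (hmem s₁ _).1 (h₁.symm ▸ h)
      exact hi (hp (Ideal.subset_span ⟨.inl i, rfl⟩))
    · obtain ⟨i, hi⟩ := (hmem s₂ _).1 (h₂.symm ▸ h)
      exact hi (hp (Ideal.subset_span ⟨.inr i, rfl⟩))
  obtain ⟨m, hm⟩ := Ideal.exists_pow_le_of_le_radical_of_fg hle hJ
  refine ⟨_, _, a, b, m, fun i j ↦ ?_, ?_, ?_, hm⟩
  · show (s₁.equivFin.symm i : R) ^ (e + 1) * (s₂.equivFin.symm j : R) ^ (e + 1) = 0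
    rw [← mul_pow, pow_succ, he _ (s₁.equivFin.symm i).2 _ (s₂.equivFin.symm j).2, zero_mul]
  · exact h₁ ▸ Set.ext (hmem s₁)
  · exact h₂ ▸ Set.ext (hmem s₂)

theorem exists_pow_le {J : Ideal A} (hI : I.FG) (hIJ : zeroLocus (J : Set A) ⊆ zeroLocus (I : Set A)) :
    ∃ m, 0 < m ∧ I ^ m ≤ J := by
  obtain ⟨m, hm⟩ := Ideal.exists_pow_le_of_le_radical_of_fg (I := I) (J := J) (by
    rw [Ideal.radical_eq_sInf]
    exact le_sInf fun p ⟨hp, hp'⟩ ↦ hIJ (a := ⟨p, hp'⟩) hp) hI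
  exact ⟨m + 1, m.succ_pos, (Ideal.pow_le_pow_right m.le_succ).trans hm⟩

variable [HenselianRing A I] {J : Ideal A}

/-- A clopen of `U` whose preimage in the completion is empty is empty. -/
theorem eq_empty_of_preimage (hI : I.FG) (hJ : J.FG) (hIJ : zeroLocus (J : Set A) ⊆ zeroLocus (I : Set A))
    {V V' : Set (PrimeSpectrum A)} (hV : IsCompact V ∧ IsOpen V) (hV' : IsCompact V' ∧ IsOpen V')
    (hd : Disjoint V V') (hu : V ∪ V' = (zeroLocus (J : Set A))ᶜ)
    (h : PrimeSpectrum.comap (algebraMap A (AdicCompletion I A)) ⁻¹' V = ∅) : V = ∅ := by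
  classical
  obtain ⟨r, s, a, b, m, hab, rfl, rfl, hm⟩ := exists_gens hJ hV hV' hd hu
  obtain ⟨m₀, hm₀, hIJ'⟩ := exists_pow_le hI hIJ
  have hnil : ∀ i, IsNilpotent (algebraMap A (AdicCompletion I A) (a i)) := fun i ↦ by
    rw [← mem_nilradical, nilradical_eq_sInf, Ideal.mem_sInf]
    intro q hq
    by_contra hq'
    exact (Set.eq_empty_iff_forall_notMem.1 h ⟨q, hq⟩) ⟨i, hq'⟩
  choose k hk using hnil
  let e := Finset.univ.sup k + 1
  let g : Fin r ⊕ Fin s → A := fun i ↦ (Sum.elim a b i) ^ e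
  have hle : J ≤ (Ideal.span (Set.range g)).radical := fun x hx ↦ by
    obtain ⟨l, hl⟩ : x ^ m ∈ (Ideal.span (Set.range g)).radical := by
      refine (hm.trans (Ideal.span_le.2 ?_)) (Ideal.pow_mem_pow hx m)
      rintro _ ⟨i, rfl⟩
      exact ⟨e, Ideal.subset_span ⟨i, rfl⟩⟩
    exact ⟨m * l, by rwa [pow_mul]⟩
  obtain ⟨m', hm'⟩ := Ideal.exists_pow_le_of_le_radical_of_fg hle hJ
  let n := m₀ * m'
  have hn : I ^ n ≤ J ^ m' := by
    rw [pow_mul]
    exact Ideal.pow_right_mono hIJ' _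
  have hadd : Ideal.span (Set.range g) ≤ Ideal.span (Set.range b) ⊔ I ^ n := by
    refine Ideal.span_le.2 ?_
    rintro _ ⟨i | j, rfl⟩
    · refine Submodule.mem_sup_right (Ideal.pow_le_pow_right n.le_succ ?_)
      rw [← comap_map_pow hI (n + 1), Ideal.mem_comap]
      show algebraMap A (AdicCompletion I A) (a i ^ e) ∈ _
      rw [map_pow, pow_eq_zero_of_le ((Finset.le_sup (f := k) (Finset.mem_univ i)).trans (Nat.le_succ _)) (hk i)]
      exact zero_mem _
    · exact Submodule.mem_sup_left (Ideal.pow_mem_of_mem (Ideal.span (Set.range b)) (show b j ∈ _ from Ideal.subset_span (Set.mem_range_self j)) _ (Nat.succ_pos _))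
  have hsplit : I ^ n ≤ Ideal.span (Set.range b) := by
    refine Submodule.le_of_le_smul_of_le_jacobson_bot (I := I) (Submodule.FG.pow hI n)
      HenselianRing.jac ?_
    refine (hn.trans hm').trans (Ideal.span_le.2 ?_)
    rintro _ ⟨i | j, rfl⟩
    · refine Submodule.mem_sup_right ?_
      rw [smul_eq_mul, ← pow_succ', ← comap_map_pow hI (n + 1), Ideal.mem_comap]
      show algebraMap A (AdicCompletion I A) (a i ^ e) ∈ _
      rw [map_pow, pow_eq_zero_of_le ((Finset.le_sup (f := k) (Finset.mem_univ i)).trans (Nat.le_succ _)) (hk i)]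
      exact zero_mem _
    · exact Submodule.mem_sup_left (Ideal.pow_mem_of_mem (Ideal.span (Set.range b)) (show b j ∈ _ from Ideal.subset_span (Set.mem_range_self j)) _ (Nat.succ_pos _))
  refine Set.eq_empty_iff_forall_notMem.2 fun p hp ↦ ?_
  have hpU : p ∉ zeroLocus (J : Set A) := by
    rw [← Set.mem_compl_iff, ← hu]
    exact Or.inl hp
  refine Set.disjoint_left.1 hd hp ?_
  by_contra hb
  refine hpU (p.isPrime.le_of_pow_le (le_trans hm' (le_trans (hadd.trans (sup_le le_rfl hsplit)) ?_)))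
  refine Ideal.span_le.2 ?_
  rintro _ ⟨j, rfl⟩
  by_contra hj
  exact hb ⟨j, hj⟩

/-- The points of a blow-up lying over points where a generator is invertible. -/
theorem exists_decomposition {r s : ℕ} (a : Fin r → A) (b : Fin s → A) {K : Ideal A}
    (hK : K = Ideal.span (Set.range (Sum.elim a b))) (hab : ∀ i j, a i * b j ∈ I * K ^ 2) :
    ∃ F F' : Set (PrimeSpectrum A), IsClosed F ∧ IsClosed F' ∧
      (∀ p : PrimeSpectrum A, ¬K ≤ p.asIdeal → (p ∈ F ∨ p ∈ F') ∧ ¬(p ∈ F ∧ p ∈ F')) ∧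
      ∀ (L : Type u) [Field L] (O : ValuationSubring L) (φ : A →+* O) (k : Fin r ⊕ Fin s),
        φ (Sum.elim a b k) ≠ 0 → I.map φ ≤ IsLocalRing.maximalIdeal O →
        ∀ t : Fin r ⊕ Fin s → O, (∀ i, φ (Sum.elim a b i) = φ (Sum.elim a b k) * t i) →
          ((∀ j, t (.inr j) ∈ IsLocalRing.maximalIdeal O) → ⟨RingHom.ker φ, RingHom.ker_isPrime φ⟩ ∈ F) ∧
          ((∀ i, t (.inl i) ∈ IsLocalRing.maximalIdeal O) → ⟨RingHom.ker φ, RingHom.ker_isPrime φ⟩ ∈ F') := by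
  have hfg : K.FG := hK ▸ Submodule.fg_span (Set.finite_range _)
  have hmem : ∀ i, Sum.elim a b i ∈ K := fun i ↦ hK ▸ Ideal.subset_span ⟨i, rfl⟩
  let C := reesCharts K
  let π := Proj (Rees.deg (reesAlgebra K)) ↘ Spec (CommRingCat.of A)
  haveI : IsProper π := isProper_proj hfg
  let R : Fin r ⊕ Fin s → Set ↥(Proj (Rees.deg (reesAlgebra K))) := fun i ↦ Set.range (C.j ⟨_, hmem i⟩)
  let Oa : Set ↥(Proj (Rees.deg (reesAlgebra K))) := ⋃ i, R (.inl i)
  let Ob : Set ↥(Proj (Rees.deg (reesAlgebra K))) := ⋃ j, R (.inr j)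
  have hOa : IsOpen Oa := isOpen_iUnion fun i ↦ (C.j _).isOpenEmbedding.isOpen_range
  have hOb : IsOpen Ob := isOpen_iUnion fun i ↦ (C.j _).isOpenEmbedding.isOpen_range
  have hcov : ∀ x, x ∈ Oa ∨ x ∈ Ob := fun x ↦ by
    obtain ⟨i | j, hi⟩ := exists_mem_range_gen hK C x
    · exact Or.inl (Set.mem_iUnion.2 ⟨i, hi⟩)
    · exact Or.inr (Set.mem_iUnion.2 ⟨j, hi⟩)
  have hdisj : ∀ x ∈ GrothLib.PropH0.Z0 π I, x ∈ Oa → x ∉ Ob := fun x hx ha hb ↦ by
    obtain ⟨i, hi⟩ := Set.mem_iUnion.1 ha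
    obtain ⟨j, hj⟩ := Set.mem_iUnion.1 hb
    exact disjoint_of_mul_mem C (I := I) hx (hab i j) hi hj
  obtain ⟨W, ⟨hW, hWZ⟩, -⟩ := GrothLib.PropH0.existsUnique_isClopen π I
    (C := GrothLib.PropH0.Z0 π I ∩ Obᶜ) (C' := GrothLib.PropH0.Z0 π I ∩ Oaᶜ)
    ((GrothLib.PropH0.isClosed_Z0 π I).inter hOb.isClosed_compl)
    ((GrothLib.PropH0.isClosed_Z0 π I).inter hOa.isClosed_compl)
    (by
      rw [← Set.inter_union_distrib_left, Set.inter_eq_left]
      intro x hx
      by_cases ha : x ∈ Oa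
      · exact Or.inl (hdisj x hx ha)
      · exact Or.inr ha)
    (Set.disjoint_left.2 fun x hx hx' ↦ (hcov x).elim hx'.2 hx.2)
  refine ⟨π.base '' W, π.base '' Wᶜ, π.isClosedMap _ hW.1, π.isClosedMap _ hW.compl.1, fun p hp ↦ ?_, ?_⟩
  · obtain ⟨i, hi⟩ : ∃ i, Sum.elim a b i ∉ p.asIdeal := by
      by_contra! h
      exact hp (hK ▸ Ideal.span_le.2 (Set.range_subset_iff.2 h))
    obtain ⟨x, hx⟩ := exists_π_eq C (g := ⟨_, hmem i⟩) p hi
    refine ⟨(em (x ∈ W)).imp (fun h ↦ ⟨x, h, hx⟩) fun h ↦ ⟨x, h, hx⟩, ?_⟩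
    rintro ⟨⟨y, hy, hyp⟩, z, hz, hzp⟩
    exact hz (eq_of_π_eq C (g := ⟨_, hmem i⟩) (hyp.trans hzp.symm) (hyp.symm ▸ hi) ▸ hy)
  · intro L _ O φ k hk hIφ t ht
    obtain ⟨x, z, hxz, hx, hz, hch⟩ := exists_specializes C O φ ⟨_, hmem k⟩ hk
      (hK ▸ map_eq_span_of_dvd φ _ k fun i ↦ ⟨t i, ht i⟩)
    have hzI : z ∈ GrothLib.PropH0.Z0 π I := fun c hc ↦ by
      show c ∈ (π z : PrimeSpectrum A).asIdeal
      rw [hz]
      exact hIφ (Ideal.mem_map_of_mem φ hc)
    have hxp : π.base x = (⟨RingHom.ker φ, RingHom.ker_isPrime φ⟩ : PrimeSpectrum A) :=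
      PrimeSpectrum.ext hx
    refine ⟨fun h ↦ ⟨x, ?_, hxp⟩, fun h ↦ ⟨x, ?_, hxp⟩⟩
    · refine hxz.mem_open hW.2 (hWZ.ge ⟨hzI, fun hb ↦ ?_⟩).1
      obtain ⟨j, hj⟩ := Set.mem_iUnion.1 hb
      exact (hch _ _ (ht (.inr j))).1 hj (h j)
    · refine hxz.mem_open hW.compl.2 fun hzW ↦ ?_
      have hzb : z ∉ Ob := (hWZ.le ⟨hzW, hzI⟩).2
      obtain ⟨i, hi⟩ := Set.mem_iUnion.1 ((hcov z).resolve_right hzb)
      exact (hch _ _ (ht (.inl i))).1 hi (h i)

omit [HenselianRing A I] in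
theorem exists_valuation {B : Type u} [CommRing B]
    (q : PrimeSpectrum B) (M : Ideal B) (hqM : q.asIdeal ≤ M) (hM : M ≠ ⊤) :
    ∃ (L : Type u) (_ : Field L) (O : ValuationSubring L) (χ : B →+* O),
      RingHom.ker χ = q.asIdeal ∧ M.map χ ≤ IsLocalRing.maximalIdeal O := by
  let L := FractionRing (B ⧸ q.asIdeal)
  let f : B →+* L := (algebraMap (B ⧸ q.asIdeal) L).comp (Ideal.Quotient.mk q.asIdeal)
  have hker : RingHom.ker f = q.asIdeal := by
    rw [← RingHom.comap_ker, (RingHom.injective_iff_ker_eq_bot _).1 (IsFractionRing.injective _ L),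
      ← RingHom.ker_eq_comap_bot, Ideal.mk_ker]
  have hne : M.map f.rangeRestrict ≠ ⊤ := fun h ↦ by
    refine hM ?_
    have hc : (M.map f.rangeRestrict).comap f.rangeRestrict = M := by
      rw [Ideal.comap_map_of_surjective' _ f.rangeRestrict_surjective, RingHom.ker_rangeRestrict, hker]
      exact sup_eq_left.2 hqM
    rw [← hc, h, Ideal.comap_top]
  obtain ⟨O, hO, hO'⟩ := Ideal.image_subset_nonunits_valuationSubring (A := f.range) _ hne
  refine ⟨L, inferInstance, O, f.codRestrict O.toSubring fun x ↦ hO ⟨x, rfl⟩, ?_, ?_⟩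
  · refine Eq.trans ?_ hker
    ext x
    rw [RingHom.mem_ker, RingHom.mem_ker]
    exact ⟨fun h ↦ congrArg Subtype.val h, fun h ↦ Subtype.ext h⟩
  · refine Ideal.map_le_iff_le_comap.2 fun x hx ↦ ?_
    rw [Ideal.mem_comap]
    exact ValuationSubring.coe_mem_nonunits_iff.1 (hO' ⟨f.rangeRestrict x, Ideal.mem_map_of_mem _ hx, rfl⟩)

/-- Clopens of the preimage in the completion descend. -/
theorem exists_preimage_eq (hI : I.FG) (hJ : J.FG) (hIJ : zeroLocus (J : Set A) ⊆ zeroLocus (I : Set A))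
    {S S' : Set (PrimeSpectrum (AdicCompletion I A))} (hS : IsCompact S ∧ IsOpen S)
    (hS' : IsCompact S' ∧ IsOpen S') (hd : Disjoint S S')
    (hu : S ∪ S' = PrimeSpectrum.comap (algebraMap A (AdicCompletion I A)) ⁻¹' (zeroLocus (J : Set A))ᶜ) :
    ∃ F F' : Set (PrimeSpectrum A), IsClosed F ∧ IsClosed F' ∧
      (∀ p : PrimeSpectrum A, p ∉ zeroLocus (J : Set A) → (p ∈ F ∨ p ∈ F') ∧ ¬(p ∈ F ∧ p ∈ F')) ∧
      (∀ q ∈ S, PrimeSpectrum.comap (algebraMap A (AdicCompletion I A)) q ∈ F) ∧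
      ∀ q ∈ S', PrimeSpectrum.comap (algebraMap A (AdicCompletion I A)) q ∈ F' := by
  classical
  let i := algebraMap A (AdicCompletion I A)
  obtain ⟨r, s, α, β, m, hαβ, hSα, hS'β, hm⟩ := exists_gens (hJ.map i) hS hS' hd (by
    rw [hu, Set.preimage_compl, preimage_comap_zeroLocus, Ideal.map, zeroLocus_span])
  obtain ⟨m₀, hm₀, hIJ'⟩ := exists_pow_le hI hIJ
  let n := m₀ * m
  let N := n + n + 1
  choose g hg using fun k ↦ exists_sub_mem_map_pow hI N (Sum.elim α β k)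
  let a := fun j ↦ g (.inl j)
  let b := fun j ↦ g (.inr j)
  have hgab : Sum.elim a b = g := by ext (j | j) <;> rfl
  let K := Ideal.span (Set.range (Sum.elim a b))
  have hn : I ^ n ≤ J ^ m := by
    rw [pow_mul]
    exact Ideal.pow_right_mono hIJ' _
  have hspan : Ideal.span (Set.range (Sum.elim α β)) ≤ (K ⊔ I ^ N).map i := by
    refine Ideal.span_le.2 ?_
    rintro _ ⟨k, rfl⟩
    rw [← sub_add_cancel (Sum.elim α β k) (i (g k))]
    refine add_mem (Ideal.map_mono le_sup_right (hg k)) (Ideal.mem_map_of_mem _ (Submodule.mem_sup_left ?_))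
    exact Ideal.subset_span ⟨k, by rw [hgab]⟩
  have hJK' : J ^ m ≤ K ⊔ I ^ N := by
    rw [← comap_map_of_pow_le hI (le_sup_right (a := K) (b := I ^ N)), ← Ideal.map_le_iff_le_comap, Ideal.map_pow]
    exact hm.trans hspan
  have hIK : I ^ n ≤ K := by
    refine Submodule.le_of_le_smul_of_le_jacobson_bot (I := I) (Submodule.FG.pow hI n) HenselianRing.jac ?_
    refine (hn.trans hJK').trans (sup_le_sup_left ?_ _)
    rw [smul_eq_mul, ← pow_succ']
    exact Ideal.pow_le_pow_right (by omega)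
  have hJK : J ^ m ≤ K := hJK'.trans (sup_le le_rfl ((Ideal.pow_le_pow_right (by omega)).trans hIK))
  have hIN : I ^ N ≤ I * K ^ 2 := by
    rw [pow_succ', pow_two]
    exact Ideal.mul_mono le_rfl (by rw [pow_add]; exact Ideal.mul_mono hIK hIK)
  have hab : ∀ x y, a x * b y ∈ I * K ^ 2 := fun x y ↦ hIN (by
    rw [← comap_map_pow hI N, Ideal.mem_comap, map_mul]
    have h1 := hg (.inl x)
    have h2 := hg (.inr y)
    simp only [Sum.elim_inl, Sum.elim_inr] at h1 h2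
    have : i (a x) * i (b y) = -(α x - i (a x)) * i (b y) - α x * (β y - i (b y)) := by
      linear_combination hαβ x y
    rw [this]
    exact sub_mem (Ideal.mul_mem_right _ _ (neg_mem h1)) (Ideal.mul_mem_left _ _ h2))
  obtain ⟨F, F', hF, hF', hFF, hval⟩ := exists_decomposition a b (K := K) rfl hab
  have hJp : ∀ p : PrimeSpectrum A, p ∉ zeroLocus (J : Set A) → ¬K ≤ p.asIdeal := fun p hp h ↦
    hp (p.isPrime.le_of_pow_le (hJK.trans h))
  refine ⟨F, F', hF, hF', fun p hp ↦ hFF p (hJp p hp), ?_⟩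
  have key : ∀ q : PrimeSpectrum (AdicCompletion I A), q ∈ S ∪ S' →
      (q ∈ S → PrimeSpectrum.comap i q ∈ F) ∧ (q ∈ S' → PrimeSpectrum.comap i q ∈ F') := by
    intro q hq
    obtain ⟨M, hM, hqM⟩ := Ideal.exists_le_maximal _ q.isPrime.ne_top
    obtain ⟨L, _, O, χ, hχ, hχM⟩ := exists_valuation q M hqM hM.ne_top
    let φ := χ.comp i
    have hker : PrimeSpectrum.comap i q = ⟨RingHom.ker φ, RingHom.ker_isPrime φ⟩ :=
      PrimeSpectrum.ext ((congrArg (Ideal.comap i) hχ.symm).trans (RingHom.comap_ker χ i))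
    have hIφ : I.map φ ≤ IsLocalRing.maximalIdeal O := by
      rw [← Ideal.map_map]
      refine (Ideal.map_mono ((map_le_jacobson hI).trans ?_)).trans hχM
      exact sInf_le ⟨bot_le, hM⟩
    obtain ⟨k₀, hk₀⟩ : ∃ k, φ (Sum.elim a b k) ≠ 0 := by
      by_contra! h
      have hq' : PrimeSpectrum.comap i q ∉ zeroLocus (J : Set A) := hu.le hq
      refine hJp _ hq' (Ideal.span_le.2 ?_)
      rintro _ ⟨k, rfl⟩
      rw [hker]
      exact h k
    obtain ⟨k, -, hk⟩ := Finset.exists_max_image Finset.univ (fun k ↦ O.valuation (φ (Sum.elim a b k) : L))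
      ⟨k₀, Finset.mem_univ _⟩
    have hk0 : φ (Sum.elim a b k) ≠ 0 := fun h ↦ hk₀ (Subtype.ext (O.valuation.zero_iff.1
      (le_antisymm ((hk k₀ (Finset.mem_univ _)).trans (by rw [h]; simp)) zero_le')))
    have hdvd : ∀ x, ∃ t, φ (Sum.elim a b x) = φ (Sum.elim a b k) * t := fun x ↦ by
      have hkL : (φ (Sum.elim a b k) : L) ≠ 0 := fun h ↦ hk0 (Subtype.ext h)
      refine ⟨⟨(φ (Sum.elim a b x) : L) / φ (Sum.elim a b k), (O.valuation_le_one_iff _).1 ?_⟩,
        Subtype.ext (mul_div_cancel₀ _ hkL).symm⟩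
      rw [map_div₀, div_le_one₀ (zero_lt_iff.2 ((Valuation.ne_zero_iff _).2 hkL))]
      exact hk x (Finset.mem_univ _)
    choose t ht using hdvd
    obtain ⟨hvF, hvF'⟩ := hval L O φ k hk0 hIφ t ht
    have hKO : K.map φ ≤ Ideal.span {φ (Sum.elim a b k)} := map_eq_span_of_dvd φ _ k fun x ↦ ⟨t x, ht x⟩
    have hsmall : ∀ x, χ (Sum.elim α β x) = 0 → t x ∈ IsLocalRing.maximalIdeal O := fun x hx ↦ by
      have h1 : φ (Sum.elim a b x) ∈ (I * K ^ 2).map φ := by
        rw [← neg_mem_iff, show -φ (Sum.elim a b x) = χ (Sum.elim α β x - i (g x)) by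
          rw [map_sub, hx, zero_sub, hgab]; rfl, ← Ideal.map_map]
        exact Ideal.mem_map_of_mem _ (Ideal.map_mono hIN (hg x))
      have h2 : (I * K ^ 2).map φ ≤ IsLocalRing.maximalIdeal O * Ideal.span {φ (Sum.elim a b k)} := by
        rw [Ideal.map_mul, Ideal.map_pow]
        exact Ideal.mul_mono hIφ ((Ideal.pow_le_self two_ne_zero).trans hKO)
      obtain ⟨u, hu', e⟩ := Ideal.mem_mul_span_singleton.1 (h2 h1)
      rw [ht x, mul_comm] at e
      exact mul_left_cancel₀ hk0 e ▸ hu'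
    have hzero : ∀ x y, χ (α x) ≠ 0 → χ (β y) = 0 := fun x y h ↦
      (mul_eq_zero.1 (by rw [← map_mul, hαβ, map_zero])).resolve_left h
    rw [hker]
    refine ⟨fun h ↦ hvF fun y ↦ hsmall _ ?_, fun h ↦ hvF' fun x ↦ hsmall _ ?_⟩
    · rw [hSα] at h
      obtain ⟨x, hx⟩ := h
      exact hzero x y fun h0 ↦ hx (hχ ▸ RingHom.mem_ker.2 h0)
    · rw [hS'β] at h
      obtain ⟨y, hy⟩ := h
      by_contra hx
      exact hy (hχ ▸ RingHom.mem_ker.2 (hzero x y hx))
  exact ⟨fun q hq ↦ (key q (Or.inl hq)).1 hq, fun q hq ↦ (key q (Or.inr hq)).2 hq⟩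

/-- Gabber rigidity for clopens: the correspondence. -/
theorem clopen_bijective (hI : I.FG) {U : TopologicalSpace.Opens (PrimeSpectrum A)}
    (hU : IsCompact (U : Set (PrimeSpectrum A))) (hUI : ∀ x ∉ U, I ≤ x.asIdeal)
    {Û : Set (PrimeSpectrum (AdicCompletion I A))}
    (hÛ : Û = PrimeSpectrum.comap (algebraMap A (AdicCompletion I A)) ⁻¹' U)
    (f : Û → U) (hf : ∀ x, (f x : PrimeSpectrum A) = PrimeSpectrum.comap (algebraMap A (AdicCompletion I A)) x) :
    (∀ V₁ V₂ : Set U, IsClopen V₁ → IsClopen V₂ → f ⁻¹' V₁ = f ⁻¹' V₂ → V₁ = V₂) ∧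
      ∀ S : Set Û, IsClopen S → ∃ V : Set U, IsClopen V ∧ f ⁻¹' V = S := by
  let c := PrimeSpectrum.comap (algebraMap A (AdicCompletion I A))
  obtain ⟨J, hJ, hJU⟩ := isCompact_isOpen_iff_ideal.1 ⟨hU, U.2⟩
  have hIJ : zeroLocus (J : Set A) ⊆ zeroLocus (I : Set A) := fun x hx ↦
    hUI x fun hxU ↦ (hJU.ge hxU) hx
  haveI : CompactSpace U := isCompact_iff_compactSpace.1 hU
  have hÛc : IsCompact Û := by
    rw [hÛ, ← hJU, Set.preimage_compl, preimage_comap_zeroLocus, ← zeroLocus_span]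
    exact (isCompact_isOpen_iff_ideal.2 ⟨_, hJ.map _, rfl⟩).1
  haveI : CompactSpace Û := isCompact_iff_compactSpace.1 hÛc
  have hÛo : IsOpen Û := hÛ ▸ U.2.preimage (continuous_comap _)
  have himg : ∀ (X : Type u) [TopologicalSpace X] (W : Set X) [CompactSpace W], IsOpen W →
      ∀ V : Set W, IsClopen V → IsCompact (Subtype.val '' V) ∧ IsOpen (Subtype.val '' V) :=
    fun X _ W _ hW V hV ↦ ⟨hV.1.isCompact.image continuous_subtype_val, hW.isOpenMap_subtype_val _ hV.2⟩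
  have hinj : ∀ V : Set U, IsClopen V → f ⁻¹' V = ∅ → V = ∅ := by
    intro V hV h
    have := eq_empty_of_preimage hI hJ hIJ (himg _ _ U.2 V hV) (himg _ _ U.2 Vᶜ hV.compl)
      ((Set.disjoint_image_iff Subtype.val_injective).2 disjoint_compl_right)
      (by rw [← Set.image_union, Set.union_compl_self, Set.image_univ, Subtype.range_coe, hJU]; rfl) ?_
    · exact Set.image_eq_empty.1 this
    · refine Set.eq_empty_iff_forall_notMem.2 fun q hq ↦ ?_
      obtain ⟨p, hp, hpq⟩ := hq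
      have hqU : q ∈ Û := hÛ.ge (show PrimeSpectrum.comap (algebraMap A (AdicCompletion I A)) q ∈ U by rw [← hpq]; exact p.2)
      refine Set.eq_empty_iff_forall_notMem.1 h ⟨q, hqU⟩ ?_
      rw [Set.mem_preimage, show f ⟨q, hqU⟩ = p from Subtype.ext ((hf _).trans hpq.symm)]
      exact hp
  refine ⟨fun V₁ V₂ h₁ h₂ h ↦ ?_, fun S hS ↦ ?_⟩
  · have e1 := hinj _ (h₁.inter h₂.compl) (by rw [Set.preimage_inter, h, ← Set.preimage_inter, Set.inter_compl_self, Set.preimage_empty])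
    have e2 := hinj _ (h₂.inter h₁.compl) (by rw [Set.preimage_inter, ← h, ← Set.preimage_inter, Set.inter_compl_self, Set.preimage_empty])
    exact Set.Subset.antisymm
      (fun x hx ↦ by_contra fun hx' ↦ Set.eq_empty_iff_forall_notMem.1 e1 x ⟨hx, hx'⟩)
      fun x hx ↦ by_contra fun hx' ↦ Set.eq_empty_iff_forall_notMem.1 e2 x ⟨hx, hx'⟩
  · obtain ⟨F, F', hF, hF', hFF, h1, h2⟩ := exists_preimage_eq hI hJ hIJ (himg _ _ hÛo S hS)
      (himg _ _ hÛo Sᶜ hS.compl) ((Set.disjoint_image_iff Subtype.val_injective).2 disjoint_compl_right)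
      (by rw [← Set.image_union, Set.union_compl_self, Set.image_univ, Subtype.range_coe, hÛ, hJU])
    have hF'' : ∀ p : U, (p : PrimeSpectrum A) ∈ F ↔ (p : PrimeSpectrum A) ∉ F' := fun p ↦ by
      obtain ⟨hor, hand⟩ := hFF p.1 fun h ↦ (hJU.ge p.2) h
      exact ⟨fun h h' ↦ hand ⟨h, h'⟩, hor.resolve_right⟩
    refine ⟨Subtype.val ⁻¹' F, ⟨hF.preimage continuous_subtype_val, ?_⟩, ?_⟩
    · have : (Subtype.val ⁻¹' F : Set U) = (Subtype.val ⁻¹' F')ᶜ := Set.ext hF''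
      rw [this]
      exact (hF'.preimage continuous_subtype_val).isOpen_compl
    · ext q
      rw [Set.mem_preimage, Set.mem_preimage]
      by_cases hq : q ∈ S
      · exact iff_of_true (hf q ▸ h1 _ ⟨q, hq, rfl⟩) hq
      · exact iff_of_false (fun h ↦ (hF'' _).1 h (hf q ▸ h2 _ ⟨q, hq, rfl⟩)) hq

end GrothLib.HensRigid4
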